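/-
Abelian subgroups of bounded index: characters of large degree of normal subgroups.

Main definitions: `Bdd`, `AbIdx`.
Main results: `Bdd.subgroup`, `ext_of_big`, `scalar_quot`.
-/
import Cfsg.Agent.Lib.CharApp.DegreeSets
import Cfsg.Agent.Lib.CharApp.Schur
import Cfsg.Agent.Lib.Char.Eigen

set_option autoImplicit false
set_option linter.style.haveILetI false
set_option linter.unusedSectionVars false

namespace Cfsg.Agent.AbelianIndex

open Cfsg Cfsg.Agent.Char Cfsg.Agent.CharApp
open scoped ComplexConjugate commutatorElement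

variable {G : Type*} [Group G] [Finite G]

/-- All irreducible degrees are at most `b`. -/
def Bdd (G : Type*) [Group G] (b : ℕ) : Prop :=
  ∀ χ : G → ℂ, IsIrrCharacter G χ → charDegree χ ≤ b

/-- An abelian subgroup of index at most `B`. -/
def AbIdx (G : Type*) [Group G] (B : ℕ) : Prop :=
  ∃ A : Subgroup G, (∀ x ∈ A, ∀ y ∈ A, x * y = y * x) ∧ A.index ≤ B

/-- A constituent of a restriction bounds the degree from below. -/
theorem degree_le_of_over {H : Subgroup G} [Fintype H] {φ : H → ℂ} (hφ : IsIrrCharacter H φ)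
    {η : G → ℂ} (hη : IsIrrCharacter G η) (h : classInner (fun x : H => η x) φ ≠ 0) :
    charDegree φ ≤ charDegree η := by
  obtain ⟨m, hm⟩ := IsCharacter.classInner_nat
    (IsCharacter.restrict (IsIrrCharacter.isCharacter hη) H) (IsIrrCharacter.isCharacter hφ)
  have hm0 : m ≠ 0 := fun e => h (by rw [hm, e, Nat.cast_zero])
  have := classInner_nat_le_degree (IsCharacter.restrict (IsIrrCharacter.isCharacter hη) H) hφ hm
    (a := charDegree η) (b := charDegree φ)
    (by simpa using DegreeSets.apply_one hη) (DegreeSets.apply_one hφ)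
  exact le_trans (Nat.le_mul_of_pos_left _ (Nat.pos_of_ne_zero hm0)) this

theorem Bdd.subgroup {b : ℕ} (hb : Bdd G b) (H : Subgroup G) : Bdd H b := by
  intro φ hφ
  haveI := Fintype.ofFinite G
  haveI := Fintype.ofFinite H
  obtain ⟨η, hη, h⟩ := exists_over H hφ
  exact (degree_le_of_over hφ hη h).trans (hb η hη)

/-- Over a character of largest possible degree of a subgroup there are only extensions. -/
theorem restrict_eq_of_max {b : ℕ} (hb : Bdd G b) {H : Subgroup G} [Fintype H] {φ : H → ℂ}
    (hφ : IsIrrCharacter H φ) (hd : b ≤ charDegree φ) {η : G → ℂ} (hη : IsIrrCharacter G η)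
    (h : classInner (fun x : H => η x) φ ≠ 0) : (fun x : H => η x) = φ := by
  have h1 := degree_le_of_over hφ hη h
  have h2 := hb η hη
  refine eq_of_constituent_of_degree (IsCharacter.restrict (IsIrrCharacter.isCharacter hη) H) hφ h
    (a := charDegree φ) ?_ (DegreeSets.apply_one hφ)
  simp only [OneMemClass.coe_one]
  rw [DegreeSets.apply_one hη, show charDegree η = charDegree φ by omega]

/-- A character of degree above half the bound extends and has abelian quotient. -/
theorem ext_of_big {b : ℕ} (hb : Bdd G b) (N : Subgroup G) [N.Normal] {φ : N → ℂ}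
    (hφ : IsIrrCharacter N φ) (hbig : b < 2 * charDegree φ) :
    (∃ θ : G → ℂ, IsIrrCharacter G θ ∧ (fun n : N => θ n) = φ) ∧
      ∀ x y : G, x * y * x⁻¹ * y⁻¹ ∈ N := by
  classical
  haveI := Fintype.ofFinite G
  haveI := Fintype.ofFinite N
  obtain ⟨θ, hθ, h⟩ := exists_over N hφ
  obtain ⟨e, he0, he, hdeg, -⟩ := DegreeSets.degree_over N hθ hφ h
  have hle := hb θ hθ
  have hk : e * (inertia N φ).index = 1 := by
    have h0 : e * (inertia N φ).index ≠ 0 :=
      Nat.mul_ne_zero he0.ne' Subgroup.index_ne_zero_of_finite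
    by_contra hne
    have : 2 * charDegree φ ≤ e * (inertia N φ).index * charDegree φ :=
      Nat.mul_le_mul_right _ (by omega)
    omega
  obtain ⟨he1, hi⟩ := mul_eq_one.1 hk
  have hinv : ∀ x : G, CliffordChar.conjFun N x φ = φ := fun x => by
    have : x ∈ inertia N φ := by rw [Subgroup.index_eq_one.1 hi]; exact Subgroup.mem_top x
    exact this
  have hres : (fun n : N => θ n) = φ := by
    have := restrict_invariant N hθ hφ h hinv
    rwa [he, he1, Nat.cast_one, one_smul] at this
  refine ⟨⟨θ, hθ, hres⟩, fun x y => ?_⟩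
  have hlin : ∀ β : IrrCharacter (G ⧸ N), (β : G ⧸ N → ℂ) 1 = 1 := by
    intro β
    have hβ := IsIrrCharacter.comp_surjective β.2 (QuotientGroup.mk' N) (QuotientGroup.mk'_surjective N)
    have hirr := gallagher_irr N hθ (hres ▸ hφ) hβ (fun n => by
      simp [(QuotientGroup.eq_one_iff (n : G)).2 n.2])
    obtain ⟨d, hd⟩ : ∃ d : ℕ, (β : G ⧸ N → ℂ) 1 = d := ⟨_, DegreeSets.apply_one β.2⟩
    have h1 := DegreeSets.apply_one hirr
    have h2 := hb _ hirr
    rw [Pi.mul_apply, DegreeSets.apply_one hθ, map_one, hd] at h1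
    have h3 : charDegree θ * d = charDegree (θ * fun g => (β : G ⧸ N → ℂ) (QuotientGroup.mk' N g)) := by
      exact_mod_cast h1
    have hd0 : d ≠ 0 := fun e0 => IsIrrCharacter.apply_one_ne_zero β.2 (by rw [hd, e0, Nat.cast_zero])
    rw [hd, Nat.cast_eq_one]
    by_contra hne
    have : charDegree θ * 2 ≤ charDegree θ * d := Nat.mul_le_mul_left _ (by omega)
    rw [hdeg, hk, one_mul] at this h3
    omega
  rw [← QuotientGroup.eq_one_iff, QuotientGroup.mk_mul, QuotientGroup.mk_mul, QuotientGroup.mk_mul,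
    QuotientGroup.mk_inv, QuotientGroup.mk_inv,
    comm_of_forall_degree_one hlin (x : G ⧸ N) (y : G ⧸ N), mul_inv_cancel_right, mul_inv_cancel]


/-- If commutators act as scalars in a character of degree at least two, the scalar subgroup has
small index and small degrees. -/
theorem scalar_quot {b : ℕ} (hb : Bdd G b) {θ : G → ℂ} (hθ : IsIrrCharacter G θ)
    (h2 : 2 ≤ charDegree θ) (hz : ∀ z ∈ commutator G, ‖θ z‖ = charDegree θ) :
    ∃ R : Subgroup G, R.index ≤ charDegree θ ^ 2 ∧ ∀ φ : R → ℂ, IsIrrCharacter R φ →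
      2 * charDegree φ ≤ b := by
  classical
  haveI := Fintype.ofFinite G
  set d := charDegree θ with hd
  have hθ1 := DegreeSets.apply_one hθ
  rw [← hd] at hθ1
  obtain ⟨n, ρ, hirr, rfl⟩ := hθ
  have hn : n = d := by
    rw [Representation.char_one, Module.finrank_fin_fun] at hθ1
    exact_mod_cast hθ1
  haveI := hirr
  let R : Subgroup G :=
    { carrier := {g | ∃ c : ℂ, ρ g = c • 1}
      one_mem' := ⟨1, by rw [map_one, one_smul]⟩
      mul_mem' := fun {a a'} ⟨c, hc⟩ ⟨c', hc'⟩ => ⟨c * c', by
        rw [map_mul, hc, hc', smul_mul_smul_comm, mul_one]⟩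
      inv_mem' := fun {a} ⟨c, hc⟩ => ⟨c⁻¹, by
        have h1 : ρ a * ρ a⁻¹ = 1 := by rw [← map_mul, mul_inv_cancel, map_one]
        rw [hc, smul_one_mul] at h1
        rcases eq_or_ne c 0 with rfl | hc0
        · rw [zero_smul] at h1
          rw [inv_zero, zero_smul]
          calc ρ a⁻¹ = 1 * ρ a⁻¹ := (one_mul _).symm
            _ = 0 := by rw [← h1, zero_mul]
        · rw [← h1, inv_smul_smul₀ hc0]⟩ }
  have hR : R.Normal := ⟨fun g ⟨c, hc⟩ x => ⟨c, by
    rw [map_mul, map_mul, hc, mul_smul_comm, smul_mul_assoc, mul_one, ← map_mul, mul_inv_cancel,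
      map_one]⟩⟩
  have hnorm : ∀ g ∈ R, ‖ρ.character g‖ = (d : ℝ) := fun g ⟨c, hc⟩ => by
    rw [(norm_character_eq_iff ρ g).2 ⟨c, hc⟩, Module.finrank_fin_fun]
    exact_mod_cast hn
  have hvan : ∀ g, g ∉ R → ρ.character g = 0 := by
    intro g hg
    by_contra hne
    refine hg ?_
    obtain ⟨c, hc⟩ := exists_scalar_of_commute ρ (ρ g) fun x => by
      obtain ⟨μ, hμ⟩ := (norm_character_eq_iff ρ ⁅x, g⁆).1 (by
        rw [Module.finrank_fin_fun, show (n : ℝ) = (d : ℝ) from by exact_mod_cast hn]
        exact hz _ (Subgroup.commutator_mem_commutator (Subgroup.mem_top x) (Subgroup.mem_top g)))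
      rw [← Module.End.one_eq_id] at hμ
      have h1 : ρ (x * g * x⁻¹) = μ • ρ g := by
        rw [show x * g * x⁻¹ = ⁅x, g⁆ * g by rw [commutatorElement_def]; group, map_mul, hμ,
          smul_one_mul]
      have h2 : ρ.character g = μ * ρ.character g := by
        conv_lhs => rw [← Char.isClassFunction_character ρ g x]
        simp [Representation.character, h1]
      have h3 : μ = 1 := by
        by_contra h
        exact hne (by
          have : (μ - 1) * ρ.character g = 0 := by rw [sub_mul, one_mul, ← h2, sub_self]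
          exact (mul_eq_zero.1 this).resolve_left (sub_ne_zero.2 h))
      rw [h3, one_smul, map_mul, map_mul] at h1
      calc ρ g * ρ x = ρ x * ρ g * ρ x⁻¹ * ρ x := by rw [h1]
        _ = ρ x * ρ g := by rw [mul_assoc _ (ρ x⁻¹), ← map_mul ρ x⁻¹, inv_mul_cancel, map_one, mul_one]
    exact ⟨c, hc⟩
  have hsum : ∀ f : G → ℝ, ∑ g, ‖ρ.character g‖ ^ 2 * f g
      = (d : ℝ) ^ 2 * ∑ r : R, f (r : G) := by
    intro f
    rw [Finset.mul_sum]
    refine (Finset.sum_congr_set (R : Set G) _ _ (fun g hg => ?_) fun g hg => ?_).trans rfl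
    · simp only [hnorm g hg]
    · simp [hvan g hg]
  have hirrθ : IsIrrCharacter G ρ.character := ⟨n, ρ, hirr, rfl⟩
  have horth : ∀ {H : Type _} [Group H] [Fintype H] {φ : H → ℂ}, IsIrrCharacter H φ →
      ∑ h, ‖φ h‖ ^ 2 = (Nat.card H : ℝ) := by
    intro H _ _ φ hφ
    have := classInner_irr_self hφ
    rw [classInner_self_eq, Complex.ofReal_eq_one,
      inv_mul_eq_iff_eq_mul₀ (Nat.cast_ne_zero.mpr Nat.card_pos.ne'), mul_one] at this
    exact this
  refine ⟨R, le_of_eq ?_, fun φ hφ => ?_⟩
  · have h1 := hsum fun _ => 1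
    simp only [mul_one, Finset.sum_const, Finset.card_univ, nsmul_eq_mul,
      ← Nat.card_eq_fintype_card] at h1
    rw [horth hirrθ] at h1
    have h3 : Nat.card G = d ^ 2 * Nat.card R := by exact_mod_cast h1
    rw [← R.index_mul_card] at h3
    exact Nat.eq_of_mul_eq_mul_right Nat.card_pos h3
  · by_contra hbig
    obtain ⟨⟨η, hη, hres⟩, -⟩ := ext_of_big hb R hφ (not_le.1 hbig)
    have hirr2 : IsIrrCharacter G (ρ.character * η) := by
      rw [isIrrCharacter_iff_norm_one (IsCharacter.mul (IsIrrCharacter.isCharacter hirrθ)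
        (IsIrrCharacter.isCharacter hη)), classInner_self_eq, Complex.ofReal_eq_one,
        inv_mul_eq_iff_eq_mul₀ (Nat.cast_ne_zero.mpr Nat.card_pos.ne'), mul_one]
      simp only [Pi.mul_apply, norm_mul, mul_pow]
      rw [hsum fun g => ‖η g‖ ^ 2, show (∑ r : R, ‖η (r : G)‖ ^ 2) = Nat.card R by
        rw [← horth hφ]; simp [← hres]]
      have h1 := hsum fun _ => 1
      simp only [mul_one, Finset.sum_const, Finset.card_univ, nsmul_eq_mul,
        ← Nat.card_eq_fintype_card] at h1
      rw [← horth hirrθ, h1]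
    have h1 := hb _ hirr2
    have h4 := DegreeSets.apply_one hirr2
    rw [Pi.mul_apply, hθ1, DegreeSets.apply_one hη] at h4
    have h5 : d * charDegree η = charDegree (ρ.character * η) := by exact_mod_cast h4
    have h6 : charDegree η = charDegree φ := by
      have := congrFun hres 1
      simp only [OneMemClass.coe_one] at this
      rw [DegreeSets.apply_one hη, DegreeSets.apply_one hφ] at this
      exact_mod_cast this
    have h7 : 2 * charDegree φ ≤ d * charDegree φ := Nat.mul_le_mul_right _ h2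
    rw [h6] at h5
    omega

end Cfsg.Agent.AbelianIndex
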