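/-
Abelian subgroups of bounded index: elements with small classes.

Main results: `abNormal_or`, `degree_in_inertia`, `bad_element`.
-/
import Cfsg.Agent.Lib.AbelianIndex.Basic

set_option autoImplicit false
set_option linter.style.haveILetI false
set_option linter.unusedSectionVars false

namespace Cfsg.Agent.AbelianIndex

open Cfsg Cfsg.Agent.Char Cfsg.Agent.CharApp
open scoped ComplexConjugate commutatorElement

variable {G : Type*} [Group G] [Finite G]

/-- An abelian normal subgroup is centralised by the derived group, unless a normal subgroup of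
small index has small degrees. -/
theorem abNormal_or {b : ℕ} (hb : Bdd G b) (N : Subgroup G) [N.Normal]
    (hN : ∀ x ∈ N, ∀ y ∈ N, x * y = y * x) :
    commutator G ≤ Subgroup.centralizer (N : Set G) ∨
      ∃ M : Subgroup G, M.index ≤ b.factorial ∧ Bdd M (b / 2) := by
  classical
  haveI := Fintype.ofFinite G
  haveI := Fintype.ofFinite N
  have hab : ∀ a c : N, a * c = c * a := fun a c => Subtype.ext (hN _ a.2 _ c.2)
  have hidx : ∀ l : IrrCharacter N, (inertia N (l : N → ℂ)).index ≤ b := by
    intro l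
    obtain ⟨χ, hχ, h⟩ := exists_over N l.2
    obtain ⟨e, he, -, hdeg, -⟩ := DegreeSets.degree_over N hχ l.2 h
    have h1 : charDegree (l : N → ℂ) = 1 := by
      have := DegreeSets.apply_one l.2
      rw [apply_one_eq_one_of_comm hab l] at this
      exact_mod_cast this.symm
    rw [h1, mul_one] at hdeg
    have := hb χ hχ
    rw [hdeg] at this
    exact le_trans (Nat.le_mul_of_pos_left _ he) this
  by_contra hno
  push Not at hno
  obtain ⟨hc, hM⟩ := hno
  refine hc ?_
  have hl : ∀ l : IrrCharacter N, commutator G ≤ inertia N (l : N → ℂ) := by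
    intro l
    set T := inertia N (l : N → ℂ)
    have hi : T.normalCore.index ≤ b.factorial := by
      rw [Subgroup.normalCore_eq_ker, Subgroup.index_ker]
      refine le_trans (Nat.card_le_card_of_injective _ Subtype.val_injective) ?_
      rw [Nat.card_perm]
      exact Nat.factorial_le ((Subgroup.index_eq_card T).symm ▸ hidx l)
    have hnb := hM T.normalCore hi
    rw [Bdd] at hnb
    push Not at hnb
    obtain ⟨φ, hφ, hd⟩ := hnb
    have h2 := (ext_of_big hb T.normalCore hφ (by omega)).2
    refine le_trans ?_ T.normalCore_le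
    rw [commutator_def, Subgroup.commutator_le]
    intro x _ y _
    simpa [commutatorElement_def] using h2 x y
  intro z hz
  rw [Subgroup.mem_centralizer_iff]
  intro m hm
  have hall : ∀ l : IrrCharacter N,
      (l : N → ℂ) ⟨z * m * z⁻¹, (inferInstance : N.Normal).conj_mem m hm z⟩ = (l : N → ℂ) ⟨m, hm⟩ :=
    fun l => (mem_inertia_iff N).1 (hl l hz) ⟨m, hm⟩
  obtain ⟨u, hu⟩ := isConj_iff.1 ((isConj_iff_irr _ _).2 hall)
  rw [hab u, mul_inv_cancel_right] at hu
  have := congrArg Subtype.val hu
  simp only at this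
  exact (mul_inv_eq_iff_eq_mul.1 this).symm

/-- Degrees over a linear character of a normal subgroup, in its inertia group. -/
theorem degree_in_inertia {b : ℕ} (hb : Bdd G b) (N : Subgroup G) [N.Normal] [Fintype N]
    {l : N → ℂ} (hl : IsIrrCharacter N l) (hl1 : l 1 = 1) (T : Subgroup G) [Fintype T]
    (hNT : N ≤ T) (hT : inertia N l = T) {ω : T → ℂ} (hω : IsIrrCharacter T ω)
    (h : classInner (fun n : N => ω ⟨(n : G), hNT n.2⟩) l ≠ 0) :
    T.index * charDegree ω ≤ b := by
  classical
  haveI := Fintype.ofFinite G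
  haveI := Fintype.ofFinite (IrrCharacter T)
  obtain ⟨χ, hχ, hov⟩ := exists_over T hω
  obtain ⟨c, hc, hin⟩ := IsCharacter.decompose (IsCharacter.restrict (IsIrrCharacter.isCharacter hχ) T)
  choose f hf using fun φ : IrrCharacter T => IsCharacter.classInner_nat
    (IsCharacter.comp_hom (IsIrrCharacter.isCharacter φ.2) (Subgroup.inclusion hNT))
    (IsIrrCharacter.isCharacter hl)
  have hfω : f ⟨ω, hω⟩ = charDegree ω := by
    have h0 := restrict_in_inertia N hl hT.symm.le hNT hω h 1
    rw [hl1, mul_one] at h0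
    have h1 : ω 1 = classInner (fun n : N => ω ⟨(n : G), hNT n.2⟩) l := h0
    rw [DegreeSets.apply_one hω] at h1
    have h2 := hf ⟨ω, hω⟩
    have h3 : classInner (fun n : N => ω ⟨(n : G), hNT n.2⟩) l = (f ⟨ω, hω⟩ : ℂ) := h2
    rw [h3] at h1
    exact_mod_cast h1.symm
  have hcω : 1 ≤ c ⟨ω, hω⟩ := by
    by_contra h0
    refine hov ((hin ⟨ω, hω⟩).trans ?_)
    rw [show c ⟨ω, hω⟩ = 0 by omega, Nat.cast_zero]
  have hsum : classInner (fun n : N => χ n) l = ((∑ φ, c φ * f φ : ℕ) : ℂ) := by
    have hrw : (fun n : N => χ n) =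
        ∑ φ : IrrCharacter T, (c φ : ℂ) • fun n : N => (φ : T → ℂ) ⟨(n : G), hNT n.2⟩ := by
      funext n
      have := congrFun hc ⟨(n : G), hNT n.2⟩
      simpa [Finset.sum_apply] using this
    rw [hrw, classInner_sum_left]
    push_cast
    exact Finset.sum_congr rfl fun φ _ => by rw [classInner_smul_left, ← hf φ]; rfl
  have hge : charDegree ω ≤ ∑ φ, c φ * f φ := by
    refine le_trans ?_ (Finset.single_le_sum (f := fun φ => c φ * f φ) (fun _ _ => Nat.zero_le _)
      (Finset.mem_univ ⟨ω, hω⟩))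
    rw [hfω]
    exact Nat.le_mul_of_pos_left _ hcω
  have hpos : 0 < charDegree ω := TwoClassChar.deg_pos hω
  obtain ⟨e, -, he, hdeg, -⟩ := DegreeSets.degree_over N hχ hl
    (by rw [hsum, Ne, Nat.cast_eq_zero]; omega)
  rw [hsum, Nat.cast_inj] at he
  have hl' : charDegree l = 1 := by
    have := DegreeSets.apply_one hl
    rw [hl1] at this
    exact_mod_cast this.symm
  have := hb χ hχ
  rw [hdeg, hl', mul_one, hT, ← he] at this
  exact le_trans (by rw [mul_comm]; exact Nat.mul_le_mul_right _ hge) this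

/-- An element whose centraliser keeps the largest degree. -/
theorem bad_element {b : ℕ} (hb : Bdd G b) (x : G) (hxZ : x ∉ Subgroup.center G)
    (hbad : ¬ Bdd (Subgroup.centralizer ({x} : Set G)) (b - 1)) :
    (∃ M : Subgroup G, M.index ≤ b.factorial ∧ Bdd M (b / 2)) ∨
      (x ∈ Subgroup.centralizer (commutator G : Set G) ∧ 4 ≤ b ∧ b ≠ 5) := by
  classical
  haveI := Fintype.ofFinite G
  set C := Subgroup.centralizer ({x} : Set G) with hC
  haveI := Fintype.ofFinite C
  rw [Bdd] at hbad
  push Not at hbad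
  obtain ⟨φ, hφ, hφd⟩ := hbad
  have hφle := hb.subgroup C φ hφ
  have hφb : charDegree φ = b := by omega
  have hext : ∀ η : G → ℂ, IsIrrCharacter G η → classInner (fun y : C => η y) φ ≠ 0 →
      (fun y : C => η y) = φ :=
    fun η hη h => restrict_eq_of_max hb hφ hφb.ge hη h
  obtain ⟨θ, hθ, hθC⟩ := exists_over C hφ
  have hres := hext θ hθ hθC
  have hxC : x ∈ C := Subgroup.mem_centralizer_singleton_iff.2 rfl
  -- the element acts as a scalar
  have hscal : ∃ ρn : ℕ, ρn = b ∧ ‖φ ⟨x, hxC⟩‖ = (b : ℝ) := by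
    obtain ⟨n, ρ, hirr, rfl⟩ := hφ
    haveI := hirr
    refine ⟨b, rfl, ?_⟩
    obtain ⟨c, hc⟩ := exists_scalar_of_mem_center ρ (z := (⟨x, hxC⟩ : C)) (Subgroup.mem_center_iff.2
      fun g => Subtype.ext (Subgroup.mem_centralizer_singleton_iff.1 g.2))
    rw [(norm_character_eq_iff ρ _).2 ⟨c, hc⟩, Module.finrank_fin_fun]
    have h1 := DegreeSets.apply_one (χ := ρ.character) ⟨n, ρ, hirr, rfl⟩
    rw [Representation.char_one, Module.finrank_fin_fun, hφb] at h1
    exact_mod_cast h1
  obtain ⟨-, -, hnorm⟩ := hscal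
  have hb0 : 0 < b := hφb ▸ TwoClassChar.deg_pos hφ
  -- conjugates lie in the centraliser
  have hconj : ∀ g : G, g⁻¹ * x * g ∈ C := by
    haveI := Fintype.ofFinite (IrrCharacter G)
    have hind := IsCharacter.indFun C (IsIrrCharacter.isCharacter hφ)
    have hexp := classFunction_eq_sum (IsCharacter.isClassFunction hind)
    have hkey : (fun y : C => indFun C φ y) = (C.index : ℂ) • φ := by
      set a := fun η : IrrCharacter G => classInner (indFun C φ) (η : G → ℂ)
      have h1 : ∀ y : C, indFun C φ y = (∑ η, a η) * φ y := by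
        intro y
        have h2 := congrFun hexp (y : G)
        simp only [Finset.sum_apply, Pi.smul_apply, smul_eq_mul] at h2
        rw [h2, Finset.sum_mul]
        refine Finset.sum_congr rfl fun η _ => ?_
        by_cases h0 : classInner (fun z : C => (η : G → ℂ) z) φ = 0
        · have : a η = 0 := by
            show classInner (indFun C φ) (η : G → ℂ) = 0
            rw [frobenius_reciprocity C _ (IsIrrCharacter.isClassFunction η.2), ← classInner_conj_symm,
              h0, map_zero]
          show a η * (η : G → ℂ) y = a η * φ y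
          simp [this]
        · show a η * (η : G → ℂ) y = a η * φ y
          rw [← congrFun (hext _ η.2 h0) y]
      have h2 := h1 1
      rw [OneMemClass.coe_one, indFun_one_apply] at h2
      have h3 := mul_right_cancel₀ (IsIrrCharacter.apply_one_ne_zero hφ) h2
      funext y
      rw [h1 y, ← h3]; rfl
    set u := φ ⟨x, hxC⟩ with hu
    have hu0 : u ≠ 0 := fun h0 => by
      rw [h0, norm_zero] at hnorm
      exact hb0.ne' (by exact_mod_cast hnorm.symm)
    have hterm : ∀ g : G, ‖extendByZero C φ (g⁻¹ * x * g)‖ ≤ ‖u‖ := by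
      intro g
      by_cases h : g⁻¹ * x * g ∈ C
      · rw [extendByZero_mem C φ h, hnorm]
        have := IsCharacter.norm_le (IsIrrCharacter.isCharacter hφ) ⟨_, h⟩
        rw [DegreeSets.apply_one hφ, hφb] at this
        simpa using this
      · rw [extendByZero_not_mem C φ h, norm_zero]
        exact norm_nonneg _
    have hsum : ∑ g : G, extendByZero C φ (g⁻¹ * x * g) = (Nat.card G : ℂ) * u := by
      have h1 := congrFun hkey ⟨x, hxC⟩
      simp only [indFun, Pi.smul_apply, smul_eq_mul, ← hu] at h1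
      rw [← C.index_mul_card, Nat.cast_mul]
      field_simp [Nat.card_pos.ne'] at h1 ⊢
      linear_combination h1
    intro g
    by_contra hg
    have h1 : ‖∑ h : G, extendByZero C φ (h⁻¹ * x * h)‖ < ∑ h : G, ‖u‖ := by
      refine lt_of_le_of_lt (norm_sum_le _ _) ?_
      refine Finset.sum_lt_sum (fun h _ => hterm h) ⟨g, Finset.mem_univ _, ?_⟩
      rw [extendByZero_not_mem C φ hg, norm_zero]
      exact norm_pos_iff.2 hu0
    rw [hsum, norm_mul, Complex.norm_natCast, Finset.sum_const, Finset.card_univ, nsmul_eq_mul,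
      Nat.card_eq_fintype_card] at h1
    exact lt_irrefl _ h1
  set N := Subgroup.normalClosure ({x} : Set G) with hN
  have hxN : x ∈ N := Subgroup.subset_normalClosure (Set.mem_singleton x)
  have hNC : N ≤ C := by
    rw [hN, Subgroup.normalClosure, Subgroup.closure_le]
    intro y hy
    obtain ⟨a, ha, hay⟩ := Group.mem_conjugatesOfSet_iff.1 hy
    obtain rfl := Set.mem_singleton_iff.1 ha
    obtain ⟨u, rfl⟩ := isConj_iff.1 hay
    simpa using hconj u⁻¹
  have hxcomm : ∀ y ∈ N, y * x = x * y := fun y hy =>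
    Subgroup.mem_centralizer_singleton_iff.1 (hNC hy)
  have hab : ∀ a ∈ N, ∀ c ∈ N, a * c = c * a := by
    have h1 : N ≤ Subgroup.centralizer (N : Set G) := by
      rw [hN]
      refine Subgroup.normalClosure_le_normal ?_
      rw [Set.singleton_subset_iff, SetLike.mem_coe, Subgroup.mem_centralizer_iff]
      exact hxcomm
    exact fun a ha c hc => (Subgroup.mem_centralizer_iff.1 (h1 ha) c hc).symm
  rcases abNormal_or hb N hab with hD | hD
  swap
  · exact Or.inl hD
  right
  have hx' : x ∈ Subgroup.centralizer (commutator G : Set G) := by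
    rw [Subgroup.mem_centralizer_iff]
    exact fun d hd => (Subgroup.mem_centralizer_iff.1 (hD hd) x hxN).symm
  refine ⟨hx', ?_⟩
  -- the centraliser is normal, hence centralises `N`
  have hCn : C.Normal := Subgroup.Normal.of_commutator_le (h := fun d hd =>
    Subgroup.mem_centralizer_singleton_iff.2 (Subgroup.mem_centralizer_iff.1 hx' d hd))
  have hCN : ∀ y ∈ C, ∀ m ∈ N, y * m = m * y := by
    have h1 : N ≤ Subgroup.centralizer (C : Set G) := by
      rw [hN]
      refine Subgroup.normalClosure_le_normal ?_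
      rw [Set.singleton_subset_iff, SetLike.mem_coe, Subgroup.mem_centralizer_iff]
      exact fun y hy => Subgroup.mem_centralizer_singleton_iff.1 hy
    exact fun y hy m hm => Subgroup.mem_centralizer_iff.1 (h1 hm) y hy
  haveI := Fintype.ofFinite N
  -- the scalar of `N`
  obtain ⟨μ, hμ1, hμmul, hμθ⟩ : ∃ μ : N → ℂ, IsIrrCharacter N μ ∧ μ 1 = 1 ∧
      ∀ (m : N) (y : G), y ∈ C → θ (m * y) = μ m * θ y := by
    obtain ⟨n, ρ, hirr, hρ⟩ := hφ
    haveI := hirr
    choose c hc using fun m : N => exists_scalar_of_mem_center ρ (z := Subgroup.inclusion hNC m)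
      (Subgroup.mem_center_iff.2 fun g => Subtype.ext (hCN g g.2 m m.2))
    haveI : Nontrivial (Fin n → ℂ) := nontrivial_of_irr ρ
    have hinj : ∀ a a' : ℂ, a • (1 : Module.End ℂ (Fin n → ℂ)) = a' • 1 → a = a' := fun a a' h => by
      obtain ⟨v, hv⟩ := exists_ne (0 : Fin n → ℂ)
      exact smul_left_injective ℂ hv (show a • v = a' • v by simpa using LinearMap.congr_fun h v)
    let f : N →* ℂ :=
      { toFun := c
        map_one' := hinj _ _ (by rw [← hc 1, map_one, map_one, one_smul])
        map_mul' := fun a a' => hinj _ _ (by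
          rw [← hc, map_mul, map_mul, hc, hc, smul_mul_smul_comm, mul_one]) }
    refine ⟨f, isIrrCharacter_of_hom f, map_one f, fun m y hy => ?_⟩
    have h1 := congrFun hres (Subgroup.inclusion hNC m * ⟨y, hy⟩)
    have h2 := congrFun hres ⟨y, hy⟩
    rw [← hρ] at h1 h2
    rw [show θ (m * y) = ρ.character (Subgroup.inclusion hNC m * ⟨y, hy⟩) from h1,
      show θ y = ρ.character ⟨y, hy⟩ from h2]
    simp only [Representation.character, map_mul, hc, smul_one_mul, map_smul, smul_eq_mul]
    rfl
  -- a linear character of `N` which is not invariant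
  obtain ⟨l, g₀, hg₀⟩ : ∃ l : IrrCharacter N, ∃ g : G, g ∉ inertia N (l : N → ℂ) := by
    by_contra hno
    push Not at hno
    refine hxZ (Subgroup.mem_center_iff.2 fun g => ?_)
    have hall : ∀ l : IrrCharacter N,
        (l : N → ℂ) ⟨g * x * g⁻¹, (inferInstance : N.Normal).conj_mem x hxN g⟩ = (l : N → ℂ) ⟨x, hxN⟩ :=
      fun l => (mem_inertia_iff N).1 (hno l g) ⟨x, hxN⟩
    obtain ⟨u, hu⟩ := isConj_iff.1 ((isConj_iff_irr _ _).2 hall)
    have := congrArg Subtype.val hu
    simp only [Subgroup.coe_mul, InvMemClass.coe_inv] at this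
    rw [hab u u.2 _ ((inferInstance : N.Normal).conj_mem x hxN g), mul_inv_cancel_right] at this
    exact mul_inv_eq_iff_eq_mul.1 this
  have hl1 : (l : N → ℂ) 1 = 1 :=
    apply_one_eq_one_of_comm (fun a c => Subtype.ext (hab _ a.2 _ c.2)) l
  set T := inertia N (l : N → ℂ) with hT
  haveI := Fintype.ofFinite T
  have hs : 2 ≤ T.index := by
    have h0 : T.index ≠ 0 := Subgroup.index_ne_zero_of_finite
    have h1 : T.index ≠ 1 := fun h => hg₀ (by rw [Subgroup.index_eq_one.1 h]; trivial)
    omega
  have hCT : C ≤ T := by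
    intro y hy
    rw [hT, mem_inertia_iff]
    intro m
    exact congrArg (l : N → ℂ) (Subtype.ext (show y * m * y⁻¹ = m by rw [hCN y hy m m.2, mul_inv_cancel_right]))
  have hNT : N ≤ T := hNC.trans hCT
  obtain ⟨χ, hχ, hχl⟩ := exists_over N l.2
  obtain ⟨ζ, -, hζl⟩ := exists_middle_constituent N hNT (IsIrrCharacter.isCharacter hχ) hχl
  -- the restriction of `θ` to `T`
  obtain ⟨ψ, hψθ⟩ : ∃ ψ : IrrCharacter T, (fun y : T => θ y) = (ψ : T → ℂ) := by
    obtain ⟨ψ, hψ⟩ := exists_constituent
      (IsCharacter.restrict (IsIrrCharacter.isCharacter hθ) T)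
      (by simpa using IsIrrCharacter.apply_one_ne_zero hθ)
    haveI := Fintype.ofFinite (IrrCharacter T)
    obtain ⟨c, hc, hin⟩ := IsCharacter.decompose
      (IsCharacter.restrict (IsIrrCharacter.isCharacter hθ) T)
    obtain ⟨ψ, hψ1, hψ2⟩ : ∃ ψ : IrrCharacter T, c ψ ≠ 0 ∧
        classInner (fun y : C => (ψ : T → ℂ) ⟨(y : G), hCT y.2⟩) φ ≠ 0 := by
      by_contra hno
      push Not at hno
      refine hθC ?_
      have hrw : (fun y : C => θ y) =
          ∑ ψ : IrrCharacter T, (c ψ : ℂ) • fun y : C => (ψ : T → ℂ) ⟨(y : G), hCT y.2⟩ := by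
        funext y
        have := congrFun hc ⟨(y : G), hCT y.2⟩
        simpa [Finset.sum_apply] using this
      rw [hrw, classInner_sum_left]
      refine Finset.sum_eq_zero fun ψ _ => ?_
      rw [classInner_smul_left]
      by_cases h0 : c ψ = 0
      · simp [h0]
      · rw [hno ψ h0, mul_zero]
    refine ⟨ψ, eq_of_constituent_of_degree (IsCharacter.restrict (IsIrrCharacter.isCharacter hθ) T) ψ.2
      (by rw [hin ψ, Ne, Nat.cast_eq_zero]; exact hψ1) (a := b) ?_ ?_⟩
    · have := congrFun hres 1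
      simp only [OneMemClass.coe_one] at this ⊢
      rw [this, DegreeSets.apply_one hφ, hφb]
    · have h1 := hb.subgroup T _ ψ.2
      obtain ⟨m, hm⟩ := IsCharacter.classInner_nat
        (IsCharacter.comp_hom (IsIrrCharacter.isCharacter ψ.2) (Subgroup.inclusion hCT))
        (IsIrrCharacter.isCharacter hφ)
      have h2 := classInner_nat_le_degree (IsCharacter.comp_hom (IsIrrCharacter.isCharacter ψ.2)
        (Subgroup.inclusion hCT)) hφ hm (a := charDegree (ψ : T → ℂ)) (b := b)
        (by simp only [map_one]; exact DegreeSets.apply_one ψ.2)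
        (by rw [DegreeSets.apply_one hφ, hφb])
      have hm0 : m ≠ 0 := fun e => hψ2 (by
        have h3 := hm
        rw [e, Nat.cast_zero] at h3
        exact h3)
      have h4 : b ≤ m * b := Nat.le_mul_of_pos_left _ (Nat.pos_of_ne_zero hm0)
      rw [DegreeSets.apply_one ψ.2]
      exact_mod_cast (show charDegree (ψ : T → ℂ) = b by omega)
  have hψb : charDegree (ψ : T → ℂ) = b := by
    have h1 := congrFun hψθ 1
    have h2 := congrFun hres 1
    simp only [OneMemClass.coe_one] at h1 h2
    rw [h2, DegreeSets.apply_one hφ, DegreeSets.apply_one ψ.2, hφb] at h1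
    exact_mod_cast h1.symm
  -- the product
  set l' : N → ℂ := μ * (l : N → ℂ) with hl'
  have hl'1 : l' 1 = 1 := by rw [hl', Pi.mul_apply, hμmul, hl1, one_mul]
  have hl'irr : IsIrrCharacter N l' := by
    obtain ⟨f, hf⟩ := exists_hom_of_degree_one (IsIrrCharacter.isCharacter l.2) hl1
    rw [hl', ← hf]
    exact IsIrrCharacter.mul_linear hμ1 f
  have hμinv : ∀ (g : G) (m : N), μ ⟨g * m * g⁻¹, (inferInstance : N.Normal).conj_mem m m.2 g⟩ = μ m := by
    intro g m
    have h1 := hμθ m 1 C.one_mem
    have h2 := hμθ ⟨g * m * g⁻¹, (inferInstance : N.Normal).conj_mem m m.2 g⟩ 1 C.one_mem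
    rw [mul_one] at h1 h2
    rw [IsIrrCharacter.isClassFunction hθ, h1] at h2
    exact (mul_right_cancel₀ (IsIrrCharacter.apply_one_ne_zero hθ) h2).symm
  have hT' : inertia N l' = T := by
    ext g
    rw [hT, mem_inertia_iff, mem_inertia_iff]
    refine forall_congr' fun m => ?_
    rw [hl', Pi.mul_apply, Pi.mul_apply, hμinv g m]
    refine mul_right_inj' fun h0 => ?_
    obtain ⟨f, hf⟩ := exists_hom_of_degree_one (IsIrrCharacter.isCharacter hμ1) hμmul
    rw [← hf] at h0
    have : f m * f m⁻¹ = 1 := by rw [← map_mul, mul_inv_cancel, map_one]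
    rw [h0, zero_mul] at this
    exact zero_ne_one this
  haveI := Fintype.ofFinite (IrrCharacter T)
  have hπ := IsCharacter.mul (IsIrrCharacter.isCharacter ψ.2) (IsIrrCharacter.isCharacter ζ.2)
  obtain ⟨c, hc, hin⟩ := IsCharacter.decompose hπ
  have hζres := restrict_in_inertia N l.2 hT.le hNT ζ.2 hζl
  obtain ⟨ω, hω1, hω2⟩ : ∃ ω : IrrCharacter T, c ω ≠ 0 ∧
      classInner (fun n : N => (ω : T → ℂ) ⟨(n : G), hNT n.2⟩) l' ≠ 0 := by
    by_contra hno
    push Not at hno
    have hval : classInner (fun n : N => ((ψ : T → ℂ) * (ζ : T → ℂ)) ⟨(n : G), hNT n.2⟩) l' = 0 := by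
      have hrw : (fun n : N => ((ψ : T → ℂ) * (ζ : T → ℂ)) ⟨(n : G), hNT n.2⟩) =
          ∑ ω : IrrCharacter T, (c ω : ℂ) • fun n : N => (ω : T → ℂ) ⟨(n : G), hNT n.2⟩ := by
        funext n
        have := congrFun hc ⟨(n : G), hNT n.2⟩
        simpa [Finset.sum_apply] using this
      rw [hrw, classInner_sum_left]
      refine Finset.sum_eq_zero fun ω _ => ?_
      rw [classInner_smul_left]
      by_cases h0 : c ω = 0
      · simp [h0]
      · rw [hno ω h0, mul_zero]
    set k := classInner (fun n : N => (ζ : T → ℂ) ⟨(n : G), hNT n.2⟩) (l : N → ℂ)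
    have hfun : (fun n : N => ((ψ : T → ℂ) * (ζ : T → ℂ)) ⟨(n : G), hNT n.2⟩) = (θ 1 * k) • l' := by
      funext n
      have h1 := hμθ n 1 C.one_mem
      rw [mul_one] at h1
      simp only [Pi.mul_apply, Pi.smul_apply, smul_eq_mul, hl']
      rw [← congrFun hψθ ⟨(n : G), hNT n.2⟩, hζres n, show θ ((⟨(n : G), hNT n.2⟩ : T) : G) = θ n from rfl,
        h1]
      ring
    rw [hfun, classInner_smul_left, classInner_irr_self hl'irr, mul_one] at hval
    exact mul_ne_zero (IsIrrCharacter.apply_one_ne_zero hθ) hζl hval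
  have hA := degree_in_inertia hb N l.2 hl1 T hNT hT.symm ζ.2 hζl
  have hB := degree_in_inertia hb N hl'irr hl'1 T hNT hT' ω.2 hω2
  have hP : b ≤ charDegree (ω : T → ℂ) * charDegree (ζ : T → ℂ) := by
    have h0 : classInner ((ω : T → ℂ) * fun y => conj ((ζ : T → ℂ) y)) (ψ : T → ℂ) ≠ 0 := by
      have h1 : classInner ((ψ : T → ℂ) * (ζ : T → ℂ)) (ω : T → ℂ) ≠ 0 := by
        rw [hin ω, Ne, Nat.cast_eq_zero]; exact hω1
      intro h2
      refine h1 ?_
      rw [← classInner_conj_symm, map_eq_zero]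
      rw [← h2]
      simp only [classInner, Pi.mul_apply, map_mul]
      congr 1
      exact Finset.sum_congr rfl fun y _ => by ring
    have hch := IsCharacter.mul (IsIrrCharacter.isCharacter ω.2)
      (IsCharacter.conj (IsIrrCharacter.isCharacter ζ.2))
    obtain ⟨m, hm⟩ := IsCharacter.classInner_nat hch (IsIrrCharacter.isCharacter ψ.2)
    have hm0 : m ≠ 0 := fun e => h0 (by rw [hm, e, Nat.cast_zero])
    have := classInner_nat_le_degree hch ψ.2 hm
      (a := charDegree (ω : T → ℂ) * charDegree (ζ : T → ℂ)) (b := b)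
      (by rw [Pi.mul_apply, DegreeSets.apply_one ω.2, DegreeSets.apply_one ζ.2, Complex.conj_natCast,
            Nat.cast_mul])
      (by rw [DegreeSets.apply_one ψ.2, hψb])
    exact le_trans (Nat.le_mul_of_pos_left _ (Nat.pos_of_ne_zero hm0)) this
  have hA2 : 2 * charDegree (ζ : T → ℂ) ≤ b := le_trans (Nat.mul_le_mul_right _ hs) hA
  have hB2 : 2 * charDegree (ω : T → ℂ) ≤ b := le_trans (Nat.mul_le_mul_right _ hs) hB
  constructor
  · by_contra h4
    have hz : charDegree (ζ : T → ℂ) ≤ 1 := by omega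
    have ho : charDegree (ω : T → ℂ) ≤ 1 := by omega
    have hb2 : b ≤ 1 := le_trans hP (Nat.mul_le_mul ho hz)
    have : 0 < charDegree (ω : T → ℂ) := TwoClassChar.deg_pos ω.2
    have h1 : charDegree (ω : T → ℂ) * charDegree (ζ : T → ℂ) ≤ 1 * 1 :=
      Nat.mul_le_mul (by omega) (by omega)
    omega
  · rintro rfl
    have h1 : charDegree (ω : T → ℂ) * charDegree (ζ : T → ℂ) ≤ 2 * 2 :=
      Nat.mul_le_mul (by omega) (by omega)
    omega

end Cfsg.Agent.AbelianIndex
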