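/-
Abelian subgroups of index at most the square of the factorial of the largest degree.

Main results: `card_le_classes`, `abIdx_factorial`.
-/
import Cfsg.Agent.Lib.AbelianIndex.Classes

set_option autoImplicit false
set_option linter.style.haveILetI false
set_option linter.unusedSectionVars false

universe u

namespace Cfsg.Agent.AbelianIndex

open Cfsg Cfsg.Agent.Char Cfsg.Agent.CharApp
open scoped ComplexConjugate commutatorElement

variable {G : Type u} [Group G] [Finite G]

/-- The order is at most the square of the bound times the class number. -/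
theorem card_le_classes {b : ℕ} (hb : Bdd G b) :
    Nat.card G ≤ b ^ 2 * Nat.card (ConjClasses G) := by
  classical
  haveI := Fintype.ofFinite (IrrCharacter G)
  have h1 := sum_sq_degrees (G := G)
  simp only [fun χ : IrrCharacter G => DegreeSets.apply_one χ.2] at h1
  have h2 : ∑ χ : IrrCharacter G, charDegree (χ : G → ℂ) ^ 2 = Nat.card G := by exact_mod_cast h1
  rw [← card_irr_eq_card_conjClasses, ← h2, Nat.card_eq_fintype_card (α := IrrCharacter G)]
  refine (Finset.sum_le_sum (g := fun _ => b ^ 2) fun χ _ => Nat.pow_le_pow_left (hb _ χ.2) 2).trans ?_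
  rw [Finset.sum_const, Finset.card_univ, smul_eq_mul, mul_comm]

theorem card_carrier (x : G) :
    Nat.card (ConjClasses.mk x).carrier = (Subgroup.centralizer ({x} : Set G)).index := by
  have h := Char.card_conjugates_mul_card_centralizer x
  rw [← (Subgroup.centralizer ({x} : Set G)).index_mul_card] at h
  refine Eq.trans ?_ (Nat.eq_of_mul_eq_mul_right Nat.card_pos h)
  refine Nat.card_congr (Equiv.subtypeEquivRight fun y => ?_)
  rw [ConjClasses.mem_carrier_iff_mk_eq, ConjClasses.mk_eq_mk_iff_isConj]
  exact isConj_comm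

/-- Summing over the classes inside and outside a normal subgroup. -/
theorem class_split (Y : Subgroup G) [Y.Normal] {M : ℕ}
    (hout : ∀ x, x ∉ Y → M ≤ (Subgroup.centralizer ({x} : Set G)).index) :
    ∃ kY ko : ℕ, Nat.card (ConjClasses G) = kY + ko ∧
      kY = Nat.card {C : ConjClasses G // C.carrier ⊆ (Y : Set G)} ∧
      Nat.card Y + M * ko ≤ Nat.card G := by
  classical
  haveI := Fintype.ofFinite G
  haveI := Fintype.ofFinite (ConjClasses G)
  let P : ConjClasses G → Prop := fun C => C.carrier ⊆ (Y : Set G)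
  refine ⟨_, (Finset.univ.filter fun C => ¬ P C).card, ?_, rfl, ?_⟩
  · rw [Nat.card_eq_fintype_card, Nat.card_eq_fintype_card, Fintype.card_subtype,
      Finset.card_filter_add_card_filter_not, Finset.card_univ]
  · have hmem : ∀ y : G, y ∈ Y ↔ P (ConjClasses.mk y) := by
      refine fun y => ⟨fun hy z hz => ?_, fun h => h ConjClasses.mem_carrier_mk⟩
      rw [ConjClasses.mem_carrier_iff_mk_eq, ConjClasses.mk_eq_mk_iff_isConj] at hz
      obtain ⟨g, hg⟩ := isConj_iff.1 hz.symm
      exact hg ▸ (inferInstance : Y.Normal).conj_mem y hy g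
    have hG : Nat.card G = ∑ C : ConjClasses G,
        (Finset.univ.filter fun y : G => ConjClasses.mk y = C).card := by
      rw [Nat.card_eq_fintype_card, ← Finset.card_univ]
      exact Finset.card_eq_sum_card_fiberwise fun _ _ => Finset.mem_univ _
    have hY : Nat.card Y = ∑ C ∈ Finset.univ.filter P,
        (Finset.univ.filter fun y : G => ConjClasses.mk y = C).card := by
      rw [Nat.card_eq_fintype_card, ← Finset.card_eq_of_equiv_fintype (s := Finset.univ.filter (· ∈ Y))
        ((Equiv.subtypeEquivRight fun y => by simp))]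
      rw [Finset.card_eq_sum_card_fiberwise (f := ConjClasses.mk) (t := Finset.univ.filter P)
        fun y hy => by simpa using (hmem y).1 (by simpa using hy)]
      refine Finset.sum_congr rfl fun C hC => ?_
      rw [Finset.filter_filter]
      refine congrArg Finset.card (Finset.filter_congr fun y _ => ?_)
      exact ⟨fun h => h.2, fun h => ⟨(hmem y).2 (h ▸ (Finset.mem_filter.1 hC).2), h⟩⟩
    rw [hG, hY, ← Finset.sum_filter_add_sum_filter_not Finset.univ P
      fun C => (Finset.univ.filter fun y : G => ConjClasses.mk y = C).card]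
    refine Nat.add_le_add_left ?_ _
    rw [mul_comm, ← smul_eq_mul, ← Finset.sum_const]
    refine Finset.sum_le_sum fun C hC => ?_
    obtain ⟨x, rfl⟩ := ConjClasses.exists_rep C
    have hx : x ∉ Y := fun h => (Finset.mem_filter.1 hC).2 ((hmem x).1 h)
    refine le_trans (hout x hx) (le_of_eq ?_)
    rw [← card_carrier, ← Fintype.card_subtype, Nat.card_eq_fintype_card]
    exact Fintype.card_congr (Equiv.subtypeEquivRight fun y => by
      rw [ConjClasses.mem_carrier_iff_mk_eq])

/-- The classes inside a subgroup are at most as many as its elements. -/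
theorem classes_le (Y : Subgroup G) :
    Nat.card {C : ConjClasses G // C.carrier ⊆ (Y : Set G)} ≤ Nat.card Y := by
  choose r hr using fun C : ConjClasses G => ConjClasses.exists_rep C
  refine Nat.card_le_card_of_injective
    (fun C => (⟨r C.1, C.2 (by rw [ConjClasses.mem_carrier_iff_mk_eq, hr])⟩ : Y)) fun C C' h => ?_
  have h1 := congrArg (fun y : Y => ConjClasses.mk (y : G)) h
  simp only [hr] at h1
  exact Subtype.ext h1

/-- Non-central classes have at least two elements. -/
theorem two_mul_classes_le (Y : Subgroup G) [Y.Normal] :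
    2 * Nat.card {C : ConjClasses G // C.carrier ⊆ (Y : Set G)}
      ≤ Nat.card Y + Nat.card (Subgroup.center G) := by
  classical
  haveI := Fintype.ofFinite G
  haveI := Fintype.ofFinite (ConjClasses G)
  set W : Subgroup G := Y ⊓ Subgroup.center G
  let P : ConjClasses G → Prop := fun C => C.carrier ⊆ (Y : Set G)
  have hsum : ∑ C ∈ Finset.univ.filter P, (Finset.univ.filter fun y : G => ConjClasses.mk y = C).card
      ≤ Nat.card Y := by
    rw [← Finset.card_biUnion (fun C _ C' _ hne => Finset.disjoint_left.2 fun y hy hy' => hne (by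
      rw [← (Finset.mem_filter.1 hy).2, (Finset.mem_filter.1 hy').2]))]
    rw [Nat.card_eq_fintype_card, ← Fintype.card_coe]
    refine Fintype.card_le_of_injective (fun y => (⟨(y : G), ?_⟩ : Y)) fun y y' h => Subtype.ext (congrArg (fun z : Y => (z : G)) h)
    obtain ⟨C, hC, hy⟩ := Finset.mem_biUnion.1 y.2
    exact (Finset.mem_filter.1 hC).2 (by
      rw [ConjClasses.mem_carrier_iff_mk_eq, (Finset.mem_filter.1 hy).2])
  let one : Finset (ConjClasses G) := (Finset.univ.filter P).filter
    fun C => (Finset.univ.filter fun y : G => ConjClasses.mk y = C).card = 1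
  have hone : one.card ≤ Nat.card (Subgroup.center G) := by
    choose r hr using fun C : ConjClasses G => ConjClasses.exists_rep C
    have hc : ∀ C ∈ one, r C ∈ Subgroup.center G := by
      intro C hC
      refine Subgroup.mem_center_iff.2 fun g => ?_
      obtain ⟨w, hw⟩ := Finset.card_eq_one.1 (Finset.mem_filter.1 hC).2
      have h1 : r C ∈ ({w} : Finset G) := hw ▸ by simp [hr]
      have h2 : g * r C * g⁻¹ ∈ ({w} : Finset G) := hw ▸ by
        simp only [Finset.mem_filter, Finset.mem_univ, true_and]
        exact (ConjClasses.mk_eq_mk_iff_isConj.2 (isConj_iff.2 ⟨g, rfl⟩).symm).trans (hr C)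
      rw [Finset.mem_singleton] at h1 h2
      exact mul_inv_eq_iff_eq_mul.1 (h2.trans h1.symm)
    rw [Nat.card_eq_fintype_card, ← Fintype.card_coe]
    exact Fintype.card_le_of_injective (fun C => (⟨r C, hc C C.2⟩ : Subgroup.center G))
      fun C C' h => Subtype.ext (by
        have := congrArg (fun z : Subgroup.center G => ConjClasses.mk (z : G)) h
        simpa [hr] using this)
  have hge : ∀ C ∈ Finset.univ.filter P, 2 ≤ (Finset.univ.filter fun y : G => ConjClasses.mk y = C).card
      + (if (Finset.univ.filter fun y : G => ConjClasses.mk y = C).card = 1 then 1 else 0) := by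
    intro C _
    obtain ⟨x, hx⟩ := ConjClasses.exists_rep C
    have : 0 < (Finset.univ.filter fun y : G => ConjClasses.mk y = C).card :=
      Finset.card_pos.2 ⟨x, by simp [hx]⟩
    split_ifs <;> omega
  have h := Finset.sum_le_sum hge
  rw [Finset.sum_const, smul_eq_mul, Finset.sum_add_distrib, ← Finset.card_filter] at h
  rw [Nat.card_eq_fintype_card (α := {C : ConjClasses G // C.carrier ⊆ (Y : Set G)}),
    Fintype.card_subtype]
  have h' : ((Finset.univ.filter P).filter fun C =>
      (Finset.univ.filter fun y : G => ConjClasses.mk y = C).card = 1).card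
      ≤ Nat.card (Subgroup.center G) := hone
  have h'' : (Finset.univ.filter P).card * 2 ≤ _ := h
  show 2 * (Finset.univ.filter P).card ≤ _
  omega

/-- An element of prime order in a subgroup modulo the centre gives an abelian subgroup. -/
theorem abIdx_of_prime (Y : Subgroup G) (hZY : Subgroup.center G ≤ Y) {p B : ℕ} (hp : p.Prime)
    (hdvd : p ∣ (Subgroup.center G).relIndex Y) (hB : (Subgroup.center G).index / p ≤ B) :
    AbIdx G B := by
  haveI := Fact.mk hp
  set Z := Subgroup.center G
  obtain ⟨y, hy⟩ := exists_prime_orderOf_dvd_card' p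
    (show p ∣ Nat.card (Y ⧸ Z.subgroupOf Y) from hdvd)
  obtain ⟨y, rfl⟩ := QuotientGroup.mk_surjective y
  have hord : orderOf (QuotientGroup.mk' Z (y : G)) = p := by
    let f : Y ⧸ Z.subgroupOf Y →* G ⧸ Z :=
      QuotientGroup.map (Z.subgroupOf Y) Z Y.subtype fun z hz => hz
    have hf : Function.Injective f := by
      rw [injective_iff_map_eq_one]
      intro q hq
      obtain ⟨q, rfl⟩ := QuotientGroup.mk_surjective q
      exact (QuotientGroup.eq_one_iff q).2 ((QuotientGroup.eq_one_iff (q : G)).1 hq)
    rw [← hy, ← orderOf_injective f hf (y : Y ⧸ Z.subgroupOf Y)]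
    rfl
  refine ⟨(Subgroup.zpowers (QuotientGroup.mk' Z (y : G))).comap (QuotientGroup.mk' Z), ?_, ?_⟩
  · intro a ha c hc
    have key : ∀ a ∈ (Subgroup.zpowers (QuotientGroup.mk' Z (y : G))).comap (QuotientGroup.mk' Z),
        ∃ k : ℤ, ∃ z ∈ Z, a = (y : G) ^ k * z := by
      intro a ha
      obtain ⟨k, hk⟩ := Subgroup.mem_zpowers_iff.1 (Subgroup.mem_comap.1 ha)
      refine ⟨k, ((y : G) ^ k)⁻¹ * a, ?_, by group⟩
      rw [← map_zpow] at hk
      exact QuotientGroup.eq.1 hk
    obtain ⟨k, z, hz, rfl⟩ := key a ha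
    obtain ⟨l, w, hw, rfl⟩ := key c hc
    have e1 : ∀ g : G, Commute g z := fun g => Subgroup.mem_center_iff.1 hz g
    have e2 : ∀ g : G, Commute g w := fun g => Subgroup.mem_center_iff.1 hw g
    exact (((Commute.zpow_zpow_self (y : G) k l).mul_right (e2 _)).mul_left
      ((e1 _).symm.mul_right (e2 _)))
  · rw [Subgroup.index_comap_of_surjective _ (QuotientGroup.mk'_surjective Z)]
    refine le_trans (le_of_eq ?_) hB
    have h1 := (Subgroup.zpowers (QuotientGroup.mk' Z (y : G))).index_mul_card
    rw [Nat.card_zpowers, hord, ← Subgroup.index_eq_card] at h1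
    rw [← h1, Nat.mul_div_cancel _ hp.pos]

theorem abIdx_center {B : ℕ} (h : (Subgroup.center G).index ≤ B) : AbIdx G B :=
  ⟨Subgroup.center G, fun _ ha c _ => (Subgroup.mem_center_iff.1 ha c).symm, h⟩

theorem abIdx_of_subgroup (H : Subgroup G) {B B' : ℕ} (h : AbIdx H B') (hle : H.index * B' ≤ B) :
    AbIdx G B := by
  obtain ⟨A, hA, hi⟩ := h
  refine ⟨A.map H.subtype, ?_, ?_⟩
  · rintro _ ⟨a, ha, rfl⟩ _ ⟨c, hc, rfl⟩
    exact congrArg Subtype.val (hA a ha c hc)
  · rw [Subgroup.index_map_subtype, mul_comm]
    exact le_trans (Nat.mul_le_mul_left _ hi) hle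

theorem small_three : ∀ n : ℕ, n ≤ 81 → n ≤ 36 ∨
    ∃ p, p.Prime ∧ p ∣ n ∧ n / p ≤ 36 := by
  intro n hn
  by_cases h : n ≤ 36
  · exact Or.inl h
  · right
    have hne : n ≠ 1 := by omega
    by_cases h72 : n ≤ 72
    · refine ⟨n.minFac, Nat.minFac_prime hne, n.minFac_dvd, ?_⟩
      have := (Nat.minFac_prime hne).two_le
      exact le_trans (Nat.div_le_div_left this (by norm_num)) (by omega)
    · interval_cases n
      · exact ⟨73, by norm_num, by norm_num, by norm_num⟩
      · exact ⟨37, by norm_num, by norm_num, by norm_num⟩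
      · exact ⟨5, by norm_num, by norm_num, by norm_num⟩
      · exact ⟨19, by norm_num, by norm_num, by norm_num⟩
      · exact ⟨7, by norm_num, by norm_num, by norm_num⟩
      · exact ⟨13, by norm_num, by norm_num, by norm_num⟩
      · exact ⟨79, by norm_num, by norm_num, by norm_num⟩
      · exact ⟨5, by norm_num, by norm_num, by norm_num⟩
      · exact ⟨3, by norm_num, by norm_num, by norm_num⟩

theorem small_two : ∀ n : ℕ, n < 16 → n ≤ 4 ∨ ∃ p, p.Prime ∧ p ∣ n ∧ n / p ≤ 4 := by
  intro n hn
  rcases (show n ≤ 4 ∨ 5 ≤ n by omega) with h | h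
  · exact Or.inl h
  · right
    interval_cases n
    · exact ⟨5, by norm_num, by norm_num, by norm_num⟩
    · exact ⟨2, by norm_num, by norm_num, by norm_num⟩
    · exact ⟨7, by norm_num, by norm_num, by norm_num⟩
    · exact ⟨2, by norm_num, by norm_num, by norm_num⟩
    · exact ⟨3, by norm_num, by norm_num, by norm_num⟩
    · exact ⟨5, by norm_num, by norm_num, by norm_num⟩
    · exact ⟨11, by norm_num, by norm_num, by norm_num⟩
    · exact ⟨3, by norm_num, by norm_num, by norm_num⟩
    · exact ⟨13, by norm_num, by norm_num, by norm_num⟩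
    · exact ⟨7, by norm_num, by norm_num, by norm_num⟩
    · exact ⟨5, by norm_num, by norm_num, by norm_num⟩

theorem small_seven : ∀ m : ℕ, 2 ≤ m → m ≤ 7 → ∃ p, p.Prime ∧ p ∣ m ∧ m / p ≤ 2 := by
  intro m h2 h7
  interval_cases m
  · exact ⟨2, by norm_num, by norm_num, by norm_num⟩
  · exact ⟨3, by norm_num, by norm_num, by norm_num⟩
  · exact ⟨2, by norm_num, by norm_num, by norm_num⟩
  · exact ⟨5, by norm_num, by norm_num, by norm_num⟩
  · exact ⟨3, by norm_num, by norm_num, by norm_num⟩
  · exact ⟨7, by norm_num, by norm_num, by norm_num⟩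

theorem sq_half_le {b : ℕ} : (b / 2).factorial ^ 2 ≤ b.factorial := by
  have h : (b / 2).factorial * (b - b / 2).factorial ≤ b.factorial :=
    Nat.le_of_dvd b.factorial_pos (Nat.factorial_mul_factorial_dvd_factorial (Nat.div_le_self b 2))
  rw [pow_two]
  exact le_trans (Nat.mul_le_mul_left _ (Nat.factorial_le (by omega))) h

theorem mul_half_le {b : ℕ} (hb : 2 ≤ b) : b * (b / 2).factorial ≤ b.factorial := by
  rw [← Nat.mul_factorial_pred (show b ≠ 0 by omega)]
  exact Nat.mul_le_mul_left _ (Nat.factorial_le (by omega))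

theorem sq_mul_half_le {b : ℕ} (hb : 5 ≤ b) : b ^ 2 * (b / 2).factorial ≤ b.factorial := by
  obtain ⟨c, rfl⟩ : ∃ c, b = c + 3 := ⟨b - 3, by omega⟩
  rw [show (c + 3).factorial = (c + 3) * (c + 2) * (c + 1) * c.factorial by
    simp [Nat.factorial_succ]; ring]
  refine Nat.mul_le_mul ?_ (Nat.factorial_le (by omega))
  nlinarith

/-- **Isaacs–Passman.** An abelian subgroup of index at most `(b!)²`. -/
theorem abIdx_factorial (b : ℕ) : ∀ (G : Type u) [Group G] [Finite G],
    Bdd G b → AbIdx G (b.factorial ^ 2) := by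
  induction b using Nat.strong_induction_on with
  | _ b IH =>
  intro G _ _ hb
  classical
  haveI := Fintype.ofFinite G
  have step : ∀ (H : Subgroup G) (c : ℕ), c < b → Bdd H c →
      H.index * c.factorial ^ 2 ≤ b.factorial ^ 2 → AbIdx G (b.factorial ^ 2) :=
    fun H c hc hH hle => abIdx_of_subgroup H (IH c hc H hH) hle
  have h1le : 1 ≤ b.factorial ^ 2 := Nat.one_le_pow _ _ b.factorial_pos
  by_cases hb2 : b ≤ 1
  · have hc := comm_of_forall_degree_one (G := G) fun χ => by
      rw [DegreeSets.apply_one χ.2, Nat.cast_eq_one]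
      have := hb _ χ.2
      have := TwoClassChar.deg_pos χ.2
      omega
    exact ⟨⊤, fun a _ c _ => hc a c, by rw [Subgroup.index_top]; exact h1le⟩
  have hhalf : b / 2 < b := by omega
  have stepM : (∃ M : Subgroup G, M.index ≤ b.factorial ∧ Bdd M (b / 2)) →
      AbIdx G (b.factorial ^ 2) := fun ⟨M, hM, hMb⟩ => step M _ hhalf hMb (by
    rw [pow_two b.factorial]
    exact Nat.mul_le_mul hM sq_half_le)
  set Y := Subgroup.centralizer (commutator G : Set G) with hY
  haveI hYn : Y.Normal := by
    refine ⟨fun y hy g => Subgroup.mem_centralizer_iff.2 fun d hd => ?_⟩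
    have h1 := Subgroup.mem_centralizer_iff.1 hy (g⁻¹ * d * g) (by
      simpa using (inferInstance : (commutator G).Normal).conj_mem d hd g⁻¹)
    calc d * (g * y * g⁻¹) = g * (g⁻¹ * d * g * y) * g⁻¹ := by group
      _ = g * (y * (g⁻¹ * d * g)) * g⁻¹ := by rw [h1]
      _ = g * y * g⁻¹ * d := by group
  set Z := Subgroup.center G with hZ
  have hZY : Z ≤ Y := Subgroup.center_le_centralizer _
  -- elements with small classes
  by_cases hgood : ∃ x, x ∉ Z ∧ (Subgroup.centralizer ({x} : Set G)).index ≤ b ^ 2 ∧
      Bdd (Subgroup.centralizer ({x} : Set G)) (b - 1)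
  · obtain ⟨x, -, hidx, hbd⟩ := hgood
    refine step _ _ (by omega) hbd ?_
    rw [← Nat.mul_factorial_pred (show b ≠ 0 by omega), mul_pow]
    exact Nat.mul_le_mul_right _ hidx
  push Not at hgood
  by_cases hM : ∃ M : Subgroup G, M.index ≤ b.factorial ∧ Bdd M (b / 2)
  · exact stepM hM
  have hsmall : ∀ x, x ∉ Z → (Subgroup.centralizer ({x} : Set G)).index ≤ b ^ 2 →
      x ∈ Y ∧ 4 ≤ b ∧ b ≠ 5 :=
    fun x hx hi => (bad_element hb x hx (hgood x hx hi)).resolve_left hM
  have hcls := card_le_classes hb
  have hcard : ∀ H : Subgroup G, Nat.card G = H.index * Nat.card H := fun H =>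
    H.index_mul_card.symm
  -- the general count
  have hcount : ∀ (H : Subgroup G) [H.Normal],
      (∀ x, x ∉ H → b ^ 2 < (Subgroup.centralizer ({x} : Set G)).index) → H.index ≤ b ^ 4 := by
    intro H _ hout
    obtain ⟨kY, ko, hk, hkY, hsum⟩ := class_split H (M := b ^ 2 + 1) fun x hx => hout x hx
    have hkY2 : kY ≤ Nat.card H := hkY ▸ classes_le H
    rw [hk] at hcls
    have h1 : Nat.card G ≤ b ^ 4 * Nat.card H := by
      nlinarith [Nat.mul_le_mul_left (b ^ 2 + 1) hcls, Nat.mul_le_mul_left (b ^ 2) hsum,
        Nat.mul_le_mul_left (b ^ 2 * (b ^ 2 + 1)) hkY2]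
    rw [hcard H] at h1
    exact Nat.le_of_mul_le_mul_right h1 Nat.card_pos
  by_cases hsm : b = 2 ∨ b = 3 ∨ b = 5
  · have hout : ∀ x, x ∉ Z → b ^ 2 < (Subgroup.centralizer ({x} : Set G)).index := by
      intro x hx
      by_contra h
      obtain ⟨-, h4, h5⟩ := hsmall x hx (not_lt.1 h)
      omega
    have hn := hcount Z hout
    rcases hsm with rfl | rfl | rfl
    · have hn16 : Z.index ≠ 16 := by
        intro h16
        have hout8 : ∀ x, x ∉ Z → 8 ≤ (Subgroup.centralizer ({x} : Set G)).index := by
          intro x hx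
          have h1 := hout x hx
          have h2 : (Subgroup.centralizer ({x} : Set G)).index ∣ 16 :=
            h16 ▸ Subgroup.index_dvd_of_le (Subgroup.center_le_centralizer _)
          have h3 := Nat.le_of_dvd (by norm_num) h2
          by_contra h8
          interval_cases h : (Subgroup.centralizer ({x} : Set G)).index <;> norm_num at *
        obtain ⟨kY, ko, hk, hkY, hsum⟩ := class_split Z hout8
        have hkY2 : kY ≤ Nat.card Z := hkY ▸ classes_le Z
        have := hcard Z
        rw [h16] at this
        have := Nat.card_pos (α := Z)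
        rw [hk] at hcls
        omega
      rcases small_two Z.index (by omega) with h | ⟨p, hp, hd, hle⟩
      · exact abIdx_center (le_trans h (by decide))
      · exact abIdx_of_prime ⊤ le_top hp (by rwa [Subgroup.relIndex_top_right])
          (le_trans hle (by decide))
    · rcases small_three Z.index (by simpa using hn) with h | ⟨p, hp, hd, hle⟩
      · exact abIdx_center (le_trans h (by decide))
      · exact abIdx_of_prime ⊤ le_top hp (by rwa [Subgroup.relIndex_top_right])
          (le_trans hle (by decide))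
    · exact abIdx_center (le_trans hn (by decide))
  have hb4 : 4 ≤ b := by omega
  have hout : ∀ x, x ∉ Y → b ^ 2 < (Subgroup.centralizer ({x} : Set G)).index := by
    intro x hx
    by_contra h
    exact hx (hsmall x (fun hz => hx (hZY hz)) (not_lt.1 h)).1
  have hn := hcount Y hout
  by_cases hYb : Bdd Y (b / 2)
  · by_cases hb5 : 5 ≤ b
    · refine step Y _ hhalf hYb ?_
      refine le_trans (Nat.mul_le_mul_right _ hn) ?_
      rw [show b ^ 4 = (b ^ 2) ^ 2 by ring, ← mul_pow]
      exact Nat.pow_le_pow_left (sq_mul_half_le hb5) 2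
    · have hb' : b = 4 := by omega
      subst hb'
      set m := Z.relIndex Y
      have hm : Z.index = m * Y.index := (Subgroup.relIndex_mul_index hZY).symm
      by_cases hm7 : m ≤ 7
      · by_cases hm1 : m ≤ 1
        · refine abIdx_center ?_
          refine le_trans (le_trans (le_of_eq hm) (Nat.mul_le_mul hm1 hn)) (by decide)
        · obtain ⟨p, hp, hd, hle⟩ := small_seven m (by omega) hm7
          refine abIdx_of_prime Y hZY hp hd ?_
          rw [hm, mul_comm, Nat.mul_div_assoc _ hd]
          exact le_trans (Nat.mul_le_mul hn hle) (by decide)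
      · obtain ⟨kY, ko, hk, hkY, hsum⟩ := class_split Y (M := 17) fun x hx => hout x hx
        have h2 : 2 * kY ≤ Nat.card Y + Nat.card Z := hkY ▸ two_mul_classes_le Y
        have h3 : Nat.card Y = m * Nat.card Z := by
          have h4 := hcard Z
          rw [hm, hcard Y, mul_comm m, mul_assoc] at h4
          exact Nat.eq_of_mul_eq_mul_left (Nat.pos_of_ne_zero Subgroup.index_ne_zero_of_finite) h4
        have h5 : 8 * Nat.card Z ≤ Nat.card Y := h3 ▸ Nat.mul_le_mul_right _ (by omega)
        rw [hk] at hcls
        have h6 : Nat.card G ≤ 137 * Nat.card Y := by omega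
        rw [hcard Y] at h6
        have h7 := Nat.le_of_mul_le_mul_right h6 Nat.card_pos
        refine step Y _ hhalf hYb (le_trans (Nat.mul_le_mul_right _ h7) (by decide))
  · rw [Bdd] at hYb
    push Not at hYb
    obtain ⟨φ, hφ, hφd⟩ := hYb
    haveI := Fintype.ofFinite Y
    obtain ⟨⟨θ, hθ, hres⟩, hab⟩ := ext_of_big hb Y hφ (by omega)
    have hGY : commutator G ≤ Y := by
      rw [commutator_def, Subgroup.commutator_le]
      intro x _ y _
      simpa [commutatorElement_def] using hab x y
    have hdeg : charDegree θ = charDegree φ := by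
      have := congrFun hres 1
      simp only [OneMemClass.coe_one] at this
      rw [DegreeSets.apply_one hθ, DegreeSets.apply_one hφ] at this
      exact_mod_cast this
    have hz : ∀ z ∈ commutator G, ‖θ z‖ = charDegree θ := by
      intro z hz
      obtain ⟨n, ρ, hirr, hρ⟩ := hφ
      haveI := hirr
      obtain ⟨c, hc⟩ := exists_scalar_of_mem_center ρ (z := (⟨z, hGY hz⟩ : Y))
        (Subgroup.mem_center_iff.2 fun g => Subtype.ext
          (Subgroup.mem_centralizer_iff.1 g.2 z hz).symm)
      have h1 := (norm_character_eq_iff ρ _).2 ⟨c, hc⟩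
      rw [congrFun hρ _, ← congrFun hres] at h1
      have h2 := Representation.char_one ρ
      rw [congrFun hρ _, DegreeSets.apply_one ⟨n, ρ, hirr, hρ⟩, ← hdeg] at h2
      have h3 : charDegree θ = Module.finrank ℂ (Fin n → ℂ) := by exact_mod_cast h2
      rw [h3]
      exact h1
    have hle := hb θ hθ
    obtain ⟨R, hR, hRb⟩ := scalar_quot hb hθ (by omega) hz
    refine step R _ hhalf (fun ψ hψ => by have := hRb ψ hψ; omega) ?_
    refine le_trans (Nat.mul_le_mul_right _ (hR.trans (Nat.pow_le_pow_left hle 2))) ?_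
    rw [← mul_pow]
    exact Nat.pow_le_pow_left (mul_half_le (by omega)) 2

end Cfsg.Agent.AbelianIndex
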